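import Groth.Agent.MultLiftLib.Eq

/-!
Where a family of endomorphisms of a diagonalisable group is the identity.
-/

set_option autoImplicit false

noncomputable section

universe u

open CategoryTheory CategoryTheory.Limits MonoidalCategory CartesianMonoidalCategory AlgebraicGeometry CoactBr WithConv
open scoped MonObj TensorProduct

namespace Groth.Agent.NormCent

open Groth.Agent.FreeAct (DA pr pr_left pr_right)
open Groth.Agent.TorusField

attribute [local instance] CoactBr.braidedAlgSpecOf

variable {S : Scheme.{u}} {K H : Over S}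

/-- The family of endomorphisms is trivial at the point `k`. -/
def Triv (c : K ⊗ H ⟶ H) {T : Over S} (k : T ⟶ K) : Prop :=
  ∀ (Y : Over S) (y : Y ⟶ T) (h : Y ⟶ H), lift (y ≫ k) h ≫ c = h

theorem triv_iff (c : K ⊗ H ⟶ H) {T : Over S} (k : T ⟶ K) : Triv c k ↔ (k ▷ H) ≫ c = snd T H := by
  constructor
  · intro h
    have := h _ (fst T H) (snd T H)
    rwa [← show (k ▷ H) = lift (fst T H ≫ k) (snd T H) from by ext <;> simp] at this
  · intro h Y y z
    rw [← lift_whiskerRight, Category.assoc, h, lift_snd]

theorem Triv.comp {c : K ⊗ H ⟶ H} {T T' : Over S} {k : T ⟶ K} (hk : Triv c k) (g : T' ⟶ T) : Triv c (g ≫ k) :=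
  fun Y y h => by rw [← Category.assoc]; exact hk Y (y ≫ g) h

variable [GrpObj H]

/-- The family consists of homomorphisms. -/
def Mult (c : K ⊗ H ⟶ H) : Prop :=
  ∀ (Y : Over S) (k : Y ⟶ K) (h h' : Y ⟶ H), lift k (h * h') ≫ c = (lift k h ≫ c) * (lift k h' ≫ c)

theorem isIso_U {R : Type u} [CommRing R] (A D : Type u) [CommRing A] [Algebra R A] [CommRing D] [Algebra R D] :
    IsIso (lift (pt (Algebra.TensorProduct.includeLeft : A →ₐ[R] A ⊗[R] D))
      (pt (Algebra.TensorProduct.includeRight : D →ₐ[R] A ⊗[R] D))) := by
  have h := lift_pt_pt (Algebra.TensorProduct.includeLeft : A →ₐ[R] A ⊗[R] D)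
    (Algebra.TensorProduct.includeRight : D →ₐ[R] A ⊗[R] D)
  rw [Algebra.TensorProduct.lift_includeLeft_includeRight, pt_id] at h
  have hm := (Functor.Monoidal.μIso (algSpec (CommRingCat.of R)) (Opposite.op (CommAlgCat.of R A))
      (Opposite.op (CommAlgCat.of R D))).isIso_hom
  have hc : IsIso (lift (pt (Algebra.TensorProduct.includeLeft : A →ₐ[R] A ⊗[R] D))
      (pt (Algebra.TensorProduct.includeRight : D →ₐ[R] A ⊗[R] D)) ≫
      Functor.LaxMonoidal.μ (algSpec (CommRingCat.of R)) (Opposite.op (CommAlgCat.of R A))
        (Opposite.op (CommAlgCat.of R D))) := by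
    rw [h]
    exact IsIso.id _
  exact @IsIso.of_isIso_comp_right _ _ _ _ _ _ _ hm hc

theorem exists_target {R : Type u} [CommRing R] (A D : Type u) [CommRing A] [Algebra R A] [CommRing D] [Bialgebra R D] :
    ∃ (T : Type u) (_ : CommRing T) (_ : Algebra R T) (jA : A →ₐ[R] T) (j : D ⊗[R] D →ₐ[R] T)
      (Ψ : T →+* A ⊗[R] (D ⊗[R] D)),
      (∀ z, Ψ (pr jA (j.comp (Bialgebra.comulAlgHom R D)) z) = TorusField.D R D A z) ∧
      (∀ z, Ψ (pr jA (j.comp Algebra.TensorProduct.includeLeft) z) = J₁ R D A z) ∧
      (∀ z, Ψ (pr jA (j.comp Algebra.TensorProduct.includeRight) z) = J₂ R D A z) := by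
  refine ⟨A ⊗[R] (D ⊗[R] D), inferInstance, inferInstance, Algebra.TensorProduct.includeLeft,
    Algebra.TensorProduct.includeRight, RingHom.id _, fun z => ?_, fun z => ?_, fun z => ?_⟩
  · induction z using TensorProduct.induction_on with
    | zero => simp
    | add p q hp hq => simp only [map_add, hp, hq]
    | tmul p q => simp [pr, TorusField.D]
  · induction z using TensorProduct.induction_on with
    | zero => simp
    | add p q hp hq => simp only [map_add, hp, hq]
    | tmul p q => simp [pr, J₁]
  · induction z using TensorProduct.induction_on with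
    | zero => simp
    | add p q hp hq => simp only [map_add, hp, hq]
    | tmul p q => simp [pr, J₂]

set_option maxHeartbeats 1000000 in
set_option synthInstance.maxHeartbeats 400000 in
/-- On an affine chart the identity locus is cut out by an idempotent. -/
theorem exists_idem {R : Type u} [CommRing R] {M : Type} [AddCommGroup M] [AddGroup.FG M]
    {K : Over (Spec (CommRingCat.of R))} (c : K ⊗ sp R (DA R M) ⟶ sp R (DA R M)) (hmul : Mult c)
    {A : Type u} [CommRing A] [Algebra R A] (k : sp R A ⟶ K) :
    ∃ e : A, IsIdempotentElem e ∧ ∀ (F : Type u) [CommRing F] [Algebra R F] (g : A →ₐ[R] F),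
      Triv c (pt g ≫ k) ↔ g e = 1 := by
  classical
  let D := DA R M
  let iL : A →ₐ[R] A ⊗[R] D := Algebra.TensorProduct.includeLeft
  let iR : D →ₐ[R] A ⊗[R] D := Algebra.TensorProduct.includeRight
  obtain ⟨f, hf⟩ : ∃ f : D →ₐ[R] A ⊗[R] D, lift (pt iL ≫ k) (pt iR) ≫ c = pt f := DiagRep.exists_pt _
  have hpt : ∀ {T : Type u} [CommRing T] [Algebra R T] (g : A →ₐ[R] T) (h : D →ₐ[R] T),
      lift (pt g ≫ k) (pt h) ≫ c = pt ((pr g h).comp f) := by
    intro T _ _ g h
    rw [pt_comp, ← hf, comp_lift_assoc, ← Category.assoc (pt (pr g h)), ← pt_comp, ← pt_comp, pr_left, pr_right]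
  -- the images of the characters are group-like
  let x : Multiplicative M → A ⊗[R] D := fun m => f (MonoidAlgebra.single m 1)
  have hgl : ∀ m, IsGL R D A (x m) := by
    intro m
    constructor
    · have hgen : ∀ {T : Type u} [CommRing T] [Algebra R T] (g : A →ₐ[R] T) (j : D ⊗[R] D →ₐ[R] T),
          pr g (j.comp (Bialgebra.comulAlgHom R D)) (x m) =
            pr g (j.comp Algebra.TensorProduct.includeLeft) (x m) *
              pr g (j.comp Algebra.TensorProduct.includeRight) (x m) := by
        intro T _ _ g j
        have e : (toConv (j.comp Algebra.TensorProduct.includeLeft) *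
            toConv (j.comp (Algebra.TensorProduct.includeRight : D →ₐ[R] D ⊗[R] D))).ofConv =
            j.comp (Bialgebra.comulAlgHom R D) := AlgHom.ext fun d => by
          rw [AlgHom.convMul_apply, AlgHom.comp_apply, Bialgebra.comulAlgHom_apply]
          generalize CoalgebraStruct.comul (R := R) d = z
          induction z using TensorProduct.induction_on with
          | zero => simp
          | add p q hp hq => simp only [map_add, hp, hq]
          | tmul p q => simp [← map_mul]
        have h1 := hmul _ (pt g ≫ k) (pt (j.comp Algebra.TensorProduct.includeLeft))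
          (pt (j.comp Algebra.TensorProduct.includeRight))
        rw [DiagRep.pt_mul_conv, hpt, hpt, hpt, DiagRep.pt_mul_conv, e] at h1
        have h2 := DFunLike.congr_fun (pt_injective h1) (MonoidAlgebra.single m 1)
        simp only [AlgHom.convMul_apply, MultLift.groupLike_single R M m |>.comul_eq_tmul_self,
          TensorProduct.map_tmul, LinearMap.mul'_apply, AlgHom.toLinearMap_apply, AlgHom.comp_apply] at h2
        exact h2
      obtain ⟨T, _, _, jA, j, Ψ, e0, e1, e2⟩ := exists_target (R := R) A D
      rw [← e0, ← e1, ← e2, ← map_mul]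
      exact congrArg Ψ (hgen jA j)
    · have h1 := hmul _ (pt (AlgHom.id R A) ≫ k) 1 1
      rw [mul_one, one_eq_pt, hpt, DiagRep.pt_mul_conv] at h1
      have e0 : pr (AlgHom.id R A) ((Algebra.ofId R A).comp (Bialgebra.counitAlgHom R D)) =
          (ev1 R D A).restrictScalars R :=
        Algebra.TensorProduct.ext (AlgHom.ext fun a => by simp [pr, ev1])
          (AlgHom.ext fun d => by simp [pr, ev1, Algebra.smul_def])
      rw [e0] at h1
      have h3 := DFunLike.congr_fun (pt_injective h1) (MonoidAlgebra.single m 1)
      simp only [AlgHom.convMul_apply, MultLift.groupLike_single R M m |>.comul_eq_tmul_self,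
        TensorProduct.map_tmul, LinearMap.mul'_apply, AlgHom.toLinearMap_apply, AlgHom.comp_apply] at h3
      have hu : IsUnit (MonoidAlgebra.single m (1 : R) : D) := by
        refine IsUnit.of_mul_eq_one (MonoidAlgebra.single m⁻¹ (1 : R)) ?_
        rw [MonoidAlgebra.single_mul_single, mul_inv_cancel, one_mul]
        rfl
      exact ((hu.map f).map ((ev1 R D A).restrictScalars R)).mul_eq_left.1 h3.symm
  obtain ⟨EA, hEA⟩ := exists_split_push (MultLift.split₀ R M) (Algebra.ofId R A)
  have hsplit : ∀ m : Multiplicative M, (MultLift.split₀ R M).e m.toAdd = (1 : R) ⊗ₜ[R] MonoidAlgebra.single m 1 :=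
    fun m => by simp [MultLift.split₀]
  let cf : Multiplicative M → A := fun m => EA.e.repr (x m) m.toAdd
  have hcf : ∀ (F : Type u) [CommRing F] [Algebra R F] (g : A →ₐ[R] F) (m : Multiplicative M),
      push g (x m) = (1 : F) ⊗ₜ[R] MonoidAlgebra.single m 1 ↔ g (cf m) = 1 := by
    intro F _ _ g m
    obtain ⟨EF, hEF⟩ := exists_split_push EA g
    have hb : EF.e m.toAdd = (1 : F) ⊗ₜ[R] MonoidAlgebra.single m 1 := by
      rw [hEF, hEA, hsplit]
      simp [push]
    rw [← hb, ← DiagHopf.repr_push EA EF g hEF]
    constructor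
    · intro h
      rw [h, Module.Basis.repr_self, Finsupp.single_eq_same]
    · intro h
      refine EF.e.ext_elem fun n => ?_
      rw [Module.Basis.repr_self, Finsupp.single_apply]
      split_ifs with hn
      · rw [← hn, h]
      · have := EF.repr_idem ((hgl m).push g) n m.toAdd
        rw [if_neg (Ne.symm hn), h, mul_one] at this
        exact this
  -- triviality on the chart
  have htriv : ∀ (F : Type u) [CommRing F] [Algebra R F] (g : A →ₐ[R] F),
      Triv c (pt g ≫ k) ↔ ∀ m, push g (x m) = (1 : F) ⊗ₜ[R] MonoidAlgebra.single m 1 := by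
    intro F _ _ g
    let pL : F →ₐ[R] F ⊗[R] D := Algebra.TensorProduct.includeLeft
    let pR : D →ₐ[R] F ⊗[R] D := Algebra.TensorProduct.includeRight
    have e : pr (pL.comp g) pR = push g :=
      Algebra.TensorProduct.ext (AlgHom.ext fun a => by simp [pr, push, pL, Algebra.TensorProduct.one_def])
        (AlgHom.ext fun d => by simp [pr, push, pR])
    have key : lift (pt pL ≫ pt g ≫ k) (pt pR) ≫ c = pt ((push g).comp f) := by
      rw [← Category.assoc (pt pL), ← pt_comp, hpt, e]
    constructor
    · intro h m
      have h1 := h _ (pt pL) (pt pR)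
      rw [key] at h1
      exact DFunLike.congr_fun (pt_injective h1) (MonoidAlgebra.single m 1)
    · intro h
      have h1 : (push g).comp f = pR :=
        AlgHom.toLinearMap_injective ((MonoidAlgebra.basis _ R).ext fun m => by
          simpa [pR] using h m)
      rw [h1] at key
      rw [triv_iff]
      haveI := isIso_U (R := R) F D
      rw [← cancel_epi (lift (pt pL) (pt pR)), lift_whiskerRight_assoc, key, lift_snd]
  haveI : Monoid.FG (Multiplicative M) := Monoid.fg_iff_add_fg.mpr (by
    exact (AddGroup.fg_iff_addMonoid_fg.1 inferInstance))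
  obtain ⟨G, hG⟩ := Monoid.fg_iff.1 ‹Monoid.FG (Multiplicative M)›
  let Gs := hG.2.toFinset
  have hidem : ∀ m, IsIdempotentElem (cf m) := fun m => by
    have := EA.repr_idem (hgl m) m.toAdd m.toAdd
    rwa [if_pos rfl] at this
  have hE : IsIdempotentElem (∏ m ∈ Gs, cf m) := by
    induction Gs using Finset.induction with
    | empty => simp [IsIdempotentElem]
    | insert a t ha ih => rw [Finset.prod_insert ha]; exact (hidem a).mul ih
  refine ⟨_, hE, fun F _ _ g => ?_⟩
  rw [htriv]
  constructor
  · intro h
    rw [map_prod]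
    exact Finset.prod_eq_one fun m _ => (hcf F g m).1 (h m)
  · intro h m
    have hone : ∀ m ∈ G, g (cf m) = 1 := by
      intro m hm
      have hm' : m ∈ Gs := hG.2.mem_toFinset.2 hm
      have h1 : g (cf m) * g (∏ n ∈ Gs, cf n) = g (∏ n ∈ Gs, cf n) := by
        rw [← map_mul]
        congr 1
        rw [← Finset.prod_erase_mul Gs cf hm', mul_left_comm, (hidem m).eq]
      rw [h, mul_one] at h1
      exact h1
    have hm : m ∈ Submonoid.closure G := by rw [hG.1]; trivial
    induction hm using Submonoid.closure_induction with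
    | mem m hm => exact (hcf F g m).2 (hone m hm)
    | one =>
      simp only [x, ← MonoidAlgebra.one_def, map_one, Algebra.TensorProduct.one_def]
      simp [push]
    | mul a b _ _ ha hb =>
      have : x (a * b) = x a * x b := by
        simp only [x]
        rw [← map_mul, MonoidAlgebra.single_mul_single, one_mul]
      rw [this, map_mul, ha, hb, Algebra.TensorProduct.tmul_mul_tmul, one_mul, MonoidAlgebra.single_mul_single,
        one_mul]

end Groth.Agent.NormCent
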