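import Groth.Agent.NormCentLib.Chart

/-!
Families of endomorphisms of groups of multiplicative type over groups with connected fibres.
-/

set_option autoImplicit false

noncomputable section

universe u

open CategoryTheory CategoryTheory.Limits MonoidalCategory CartesianMonoidalCategory AlgebraicGeometry CoactBr
open scoped MonObj TensorProduct

namespace Groth.Agent.NormCent

open Groth.Agent.FreeAct (DA)

attribute [local instance] CoactBr.braidedAlgSpecOf

variable {S : Scheme.{u}} {K H : Over S}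

/-- Triviality is local for flat jointly surjective families. -/
theorem triv_of_family {c : K ⊗ H ⟶ H} {T : Over S} {k : T ⟶ K} {I : Type u} {T' : I → Over S} (q : ∀ i, T' i ⟶ T)
    (hflat : ∀ i, Flat (q i).left) (hsurj : ∀ t : T.left, ∃ i, t ∈ Set.range (q i).left)
    (h : ∀ i, Triv c (q i ≫ k)) : Triv c k := by
  intro Y y z
  let P : I → Scheme.{u} := fun i => pullback y.left (q i).left
  let π : (∐ P) ⟶ Y.left := Sigma.desc fun i => pullback.fst y.left (q i).left
  haveI : Flat π := IsZariskiLocalAtSource.sigmaDesc fun i => by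
    haveI := hflat i
    infer_instance
  haveI : Surjective π := ⟨fun a => by
    obtain ⟨i, b, hb⟩ := hsurj (y.left a)
    obtain ⟨w, hw, -⟩ := Scheme.Pullback.exists_preimage_pullback (f := y.left) (g := (q i).left) a b hb.symm
    refine ⟨Sigma.ι P i w, ?_⟩
    rw [← Scheme.Hom.comp_apply, Sigma.ι_desc]
    exact hw⟩
  haveI : Epi π := Flat.epi_of_flat_of_surjective π
  refine Over.OverMorphism.ext ((cancel_epi π).1 (Sigma.hom_ext _ _ fun i => ?_))
  let Y' : Over S := Over.mk (pullback.fst y.left (q i).left ≫ Y.hom)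
  let e : Y' ⟶ Y := Over.homMk (pullback.fst _ _)
  let y' : Y' ⟶ T' i := Over.homMk (pullback.snd _ _) (by
    show pullback.snd _ _ ≫ (T' i).hom = pullback.fst _ _ ≫ Y.hom
    rw [← Over.w (q i), ← pullback.condition_assoc, Over.w y])
  have he : y' ≫ q i = e ≫ y := Over.OverMorphism.ext pullback.condition.symm
  have h1 := h i Y' y' (e ≫ z)
  rw [← Category.assoc, he, Category.assoc, ← comp_lift, Category.assoc] at h1
  rw [Sigma.ι_desc_assoc, Sigma.ι_desc_assoc]
  exact congrArg CommaMorphism.left h1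

/-- The point with values in the residue field. -/
def rp (x : K.left) : Over.mk (K.left.fromSpecResidueField x ≫ K.hom) ⟶ K :=
  Over.homMk (K.left.fromSpecResidueField x)

theorem triv_field_iff (c : K ⊗ H ⟶ H) {F : Type u} [Field F] {T : Over S} (k : T ⟶ K)
    (e : Spec (CommRingCat.of F) ⟶ T.left) [IsIso e] (x : K.left) (hx : k.left (e (IsLocalRing.closedPoint F)) = x) :
    Triv c k ↔ Triv c (rp x) := by
  subst hx
  let f : Spec (CommRingCat.of F) ⟶ K.left := e ≫ k.left
  let d : Spec (CommRingCat.of F) ⟶ Spec (K.left.residueField (f (IsLocalRing.closedPoint F))) :=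
    Spec.map (K.left.descResidueField (Scheme.stalkClosedPointTo f))
  have hd : d ≫ K.left.fromSpecResidueField _ = f :=
    Scheme.descResidueField_stalkClosedPointTo_fromSpecResidueField F K.left f
  let d' : T ⟶ Over.mk (K.left.fromSpecResidueField (f (IsLocalRing.closedPoint F)) ≫ K.hom) :=
    Over.homMk (inv e ≫ d) (by
      show (inv e ≫ d) ≫ K.left.fromSpecResidueField _ ≫ K.hom = T.hom
      rw [Category.assoc, reassoc_of% hd]
      simp only [f, Category.assoc, IsIso.inv_hom_id_assoc]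
      exact Over.w k)
  have hk : d' ≫ rp (f (IsLocalRing.closedPoint F)) = k := Over.OverMorphism.ext (by
    show (inv e ≫ d) ≫ K.left.fromSpecResidueField _ = k.left
    rw [Category.assoc, hd]
    simp [f])
  constructor
  · intro h
    refine triv_of_family (fun _ : PUnit.{u + 1} => d') (fun _ => ?_) (fun t => ⟨PUnit.unit, ?_⟩) (fun _ => hk.symm ▸ h)
    · show Flat (inv e ≫ d)
      haveI : Flat d := by
        rw [HasRingHomProperty.Spec_iff (P := @Flat)]
        let ψ := (K.left.descResidueField (Scheme.stalkClosedPointTo f)).hom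
        letI := ψ.toAlgebra
        exact RingHom.flat_algebraMap_iff.2 (inferInstance :
          Module.Flat (K.left.residueField (f (IsLocalRing.closedPoint F))) F)
      infer_instance
    · refine ⟨e (IsLocalRing.closedPoint F), @Subsingleton.elim _ ?_ _ _⟩
      exact inferInstanceAs (Subsingleton (PrimeSpectrum (K.left.residueField _)))
  · intro h
    rw [← hk]
    exact h.comp d'

section Chart

variable [GrpObj H] {R : Type u} [CommRing R] {M : Type} [AddCommGroup M]

theorem lift_homEquiv_bc (p : Spec (CommRingCat.of R) ⟶ S) (c : K ⊗ H ⟶ H) {T : Over (Spec (CommRingCat.of R))}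
    (g : (Over.map p).obj T ⟶ K) (x : (Over.map p).obj T ⟶ H) :
    lift ((Over.mapPullbackAdj p).homEquiv T K g) ((Over.mapPullbackAdj p).homEquiv T H x) ≫
      Functor.LaxMonoidal.μ (Over.pullback p) K H ≫ (Over.pullback p).map c =
      (Over.mapPullbackAdj p).homEquiv T H (lift g x ≫ c) := by
  simp only [Adjunction.homEquiv_unit]
  rw [← comp_lift_assoc, Functor.Monoidal.lift_μ_assoc, ← Functor.map_comp]

set_option maxHeartbeats 1000000 in
/-- On an affine chart over a split piece the trivial locus is clopen. -/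
theorem exists_clopen [AddGroup.FG M] {c : K ⊗ H ⟶ H} (hmul : Mult c) (p : Spec (CommRingCat.of R) ⟶ S)
    (w : sp R (DA R M) ≅ Red.bc p H) [IsMonHom w.hom] {A : Type u} [CommRing A]
    (v : Spec (CommRingCat.of A) ⟶ pullback K.hom p) :
    ∃ W : Set (Spec (CommRingCat.of A)), IsClopen W ∧
      (∀ a, a ∈ W ↔ Triv c (rp ((v ≫ pullback.fst K.hom p) a))) ∧
      (W = Set.univ → Triv (T := Over.mk ((v ≫ pullback.fst K.hom p) ≫ K.hom)) c
        (Over.homMk (v ≫ pullback.fst K.hom p))) := by
  obtain ⟨φ, hφ⟩ := Spec.map_surjective (v ≫ pullback.snd K.hom p)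
  letI : Algebra R A := φ.hom.toAlgebra
  let adj := Over.mapPullbackAdj p
  let k : sp R A ⟶ Red.bc p K := Over.homMk v (by
    show v ≫ pullback.snd K.hom p = Spec.map (CommRingCat.ofHom φ.hom)
    rw [← hφ]
    rfl)
  obtain ⟨k₀, hk₀⟩ := (adj.homEquiv (sp R A) K).surjective k
  have hk₀' : k₀.left = v ≫ pullback.fst K.hom p := by
    have h := congrArg (fun m => (adj.homEquiv (sp R A) K).symm m) hk₀
    simp only [Equiv.symm_apply_apply] at h
    rw [h, Adjunction.homEquiv_counit]
    show v ≫ ((Over.mapPullbackAdj p).counit.app K).left = _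
    simp [Over.mapPullbackAdj]
  let wi := w.inv
  haveI : IsMonHom wi := by
    show IsMonHom w.inv
    infer_instance
  let c' : Red.bc p K ⊗ sp R (DA R M) ⟶ sp R (DA R M) :=
    (Red.bc p K ◁ w.hom) ≫ (Functor.LaxMonoidal.μ (Over.pullback p) K H ≫ (Over.pullback p).map c) ≫ wi
  have hc' : ∀ {T : Over (Spec (CommRingCat.of R))} (g : (Over.map p).obj T ⟶ K) (h : T ⟶ sp R (DA R M)),
      lift (adj.homEquiv T K g) h ≫ c' =
        adj.homEquiv T H (lift g ((adj.homEquiv T H).symm (h ≫ w.hom)) ≫ c) ≫ wi := by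
    intro T g h
    rw [← lift_homEquiv_bc, Equiv.apply_symm_apply]
    simp only [c', lift_whiskerLeft_assoc, Category.assoc]
    rfl
  have hmul' : Mult c' := by
    intro Y g h h'
    obtain ⟨g, rfl⟩ := (adj.homEquiv Y K).surjective g
    rw [hc', hc', hc']
    obtain ⟨z, hz⟩ := (adj.homEquiv Y H).surjective (h ≫ w.hom)
    obtain ⟨z', hz'⟩ := (adj.homEquiv Y H).surjective (h' ≫ w.hom)
    have e : adj.homEquiv Y H (z * z') = (h * h') ≫ w.hom := by
      rw [AlgGrp.Action.homEquiv_mul, hz, hz', MonObj.mul_comp]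
    rw [← e, ← hz, ← hz', Equiv.symm_apply_apply, Equiv.symm_apply_apply, Equiv.symm_apply_apply, hmul,
      AlgGrp.Action.homEquiv_mul, MonObj.mul_comp]
  -- triviality before and after base change
  have hiff : ∀ {T : Over (Spec (CommRingCat.of R))} (g : (Over.map p).obj T ⟶ K),
      Triv c' (adj.homEquiv T K g) ↔ Triv c g := by
    intro T g
    constructor
    · intro h Y y z
      let Y' : Over (Spec (CommRingCat.of R)) := Over.mk (y.left ≫ T.hom)
      let ε : (Over.map p).obj Y' ⟶ Y := Over.homMk (𝟙 Y.left) (by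
        show 𝟙 Y.left ≫ Y.hom = (y.left ≫ T.hom) ≫ p
        rw [Category.id_comp, Category.assoc]
        exact (Over.w y).symm)
      haveI : IsIso ((Over.forget S).map ε) := inferInstanceAs (IsIso (𝟙 Y.left))
      haveI : IsIso ε := isIso_of_reflects_iso ε (Over.forget S)
      let y' : Y' ⟶ T := Over.homMk y.left
      have hy : (Over.map p).map y' = ε ≫ y := Over.OverMorphism.ext (Category.id_comp _).symm
      have h1 := h Y' y' (adj.homEquiv Y' H (ε ≫ z) ≫ wi)
      rw [← adj.homEquiv_naturality_left, hy, hc'] at h1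
      simp only [wi, Category.assoc, Iso.inv_hom_id, Category.comp_id, Equiv.symm_apply_apply] at h1
      rw [← cancel_epi ε]
      have h2 := (adj.homEquiv Y' H).injective ((cancel_mono w.inv).1 h1)
      rw [comp_lift_assoc, ← Category.assoc ε y]
      exact h2
    · intro h Y y z
      rw [← adj.homEquiv_naturality_left, hc', h _ _ _, Equiv.apply_symm_apply]
      simp [wi]
  obtain ⟨e, he, heF⟩ := exists_idem c' hmul' k
  refine ⟨(PrimeSpectrum.basicOpen e : Set (PrimeSpectrum A)), ?_, fun a => ?_, fun hW => ?_⟩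
  · refine ⟨⟨?_⟩, (PrimeSpectrum.basicOpen e).isOpen⟩
    suffices h : ((PrimeSpectrum.basicOpen e : Set (PrimeSpectrum A)))ᶜ = (PrimeSpectrum.basicOpen (1 - e) : Set (PrimeSpectrum A)) by
      exact h ▸ (PrimeSpectrum.basicOpen (1 - e)).isOpen
    refine Set.ext fun (q : PrimeSpectrum A) => ?_
    simp only [Set.mem_compl_iff, SetLike.mem_coe, PrimeSpectrum.mem_basicOpen, not_not]
    constructor
    · intro hq h
      exact q.isPrime.ne_top ((Ideal.eq_top_iff_one _).2 (by simpa using add_mem h hq))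
    · intro hq
      rcases q.isPrime.mem_or_mem (show e * (1 - e) ∈ q.asIdeal by rw [mul_sub, mul_one, he.eq, sub_self]; exact zero_mem _)
        with h | h
      · exact h
      · exact absurd h hq
  · let q : PrimeSpectrum A := a
    let F := q.asIdeal.ResidueField
    let g : A →ₐ[R] F := IsScalarTower.toAlgHom R A F
    have h1 := heF F g
    rw [← hk₀, ← adj.homEquiv_naturality_left, hiff] at h1
    let e₀ : Spec (CommRingCat.of F) ⟶ ((Over.map p).obj (sp R F)).left := 𝟙 _
    haveI : IsIso e₀ := inferInstanceAs (IsIso (𝟙 (Spec (CommRingCat.of F))))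
    have hx : ((Over.map p).map (pt g) ≫ k₀).left (e₀ (IsLocalRing.closedPoint F)) =
        (v ≫ pullback.fst K.hom p) a := by
      have e1 : ((Over.map p).map (pt g) ≫ k₀).left = Spec.map (CommRingCat.ofHom g.toRingHom) ≫ k₀.left := by
        rw [Over.comp_left, Over.map_map_left, pt_left]
        rfl
      rw [e1, hk₀']
      refine congrArg (fun b => (v ≫ pullback.fst K.hom p) b) (PrimeSpectrum.ext ?_)
      show Ideal.comap (algebraMap A F) (IsLocalRing.maximalIdeal F) = q.asIdeal
      rw [IsLocalRing.isField_iff_maximalIdeal_eq.1 (Field.toIsField F)]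
      exact Ideal.ker_algebraMap_residueField _
    rw [← triv_field_iff c _ e₀ _ hx, h1]
    have h2 : g e = 1 ↔ g e ≠ 0 :=
      ⟨fun h => h ▸ one_ne_zero, fun h => (mul_eq_left₀ h).1 (by rw [← map_mul, he.eq])⟩
    rw [h2]
    show q ∈ PrimeSpectrum.basicOpen e ↔ _
    rw [PrimeSpectrum.mem_basicOpen]
    exact not_congr (Ideal.algebraMap_residueField_eq_zero).symm
  · have hu : IsUnit e := by
      by_contra hu
      obtain ⟨m, hm, hem⟩ := Ideal.exists_le_maximal _ (Ideal.span_singleton_ne_top hu)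
      have : (⟨m, hm.isPrime⟩ : PrimeSpectrum A) ∈ (PrimeSpectrum.basicOpen e : Set (PrimeSpectrum A)) := by
        rw [hW]; trivial
      exact this (hem (Ideal.mem_span_singleton_self e))
    have he1 : e = 1 := hu.mul_eq_left.1 he.eq
    have h1 := (heF A (AlgHom.id R A)).2 he1
    rw [pt_id, Category.id_comp, ← hk₀, hiff] at h1
    intro Y y z
    have hY : (v ≫ pullback.fst K.hom p) ≫ K.hom = Spec.map φ ≫ p := by
      rw [Category.assoc, pullback.condition, ← Category.assoc, hφ]
    let y' : Y ⟶ (Over.map p).obj (sp R A) := Over.homMk y.left ((congrArg (y.left ≫ ·) hY.symm).trans (Over.w y))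
    have := h1 Y y' z
    rwa [show y ≫ Over.homMk (v ≫ pullback.fst K.hom p) = y' ≫ k₀ from Over.OverMorphism.ext (by
      show y.left ≫ v ≫ pullback.fst K.hom p = y.left ≫ k₀.left
      rw [hk₀'])]

end Chart

variable [GrpObj H] [GrpObj K]

omit [GrpObj H] in
theorem exists_unit_mem {c : K ⊗ H ⟶ H} (hone : ∀ T : Over S, Triv c (1 : T ⟶ K)) (s : S) :
    ∃ y : ↥(pullback K.hom (S.fromSpecResidueField s)), Triv c (rp (pullback.fst K.hom (S.fromSpecResidueField s) y)) := by
  let T₀ : Over S := Over.mk (S.fromSpecResidueField s)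
  let e : Spec (CommRingCat.of (S.residueField s)) ⟶ T₀.left := 𝟙 _
  haveI : IsIso e := inferInstanceAs (IsIso (𝟙 (Spec (S.residueField s))))
  let l : Spec (S.residueField s) ⟶ pullback K.hom (S.fromSpecResidueField s) :=
    pullback.lift (1 : T₀ ⟶ K).left (𝟙 _) ((Over.w (1 : T₀ ⟶ K)).trans (Category.id_comp _).symm)
  refine ⟨l (e (IsLocalRing.closedPoint _)), (triv_field_iff c (1 : T₀ ⟶ K) e _ ?_).1 (hone T₀)⟩
  rw [← Scheme.Hom.comp_apply l, pullback.lift_fst]

/-- All points of the parameter group act trivially. -/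
theorem triv_rp (hconn : ∀ s : S, ConnectedSpace ↥(pullback K.hom (S.fromSpecResidueField s)))
    {S' : Scheme.{u}} (f : S' ⟶ S) [Surjective f] (U : S' → S'.Opens) (hxU : ∀ s', s' ∈ U s') (M : S' → Type)
    [∀ s', AddCommGroup (M s')] (hM : ∀ s', AddGroup.FG (M s'))
    (hiso : ∀ s', Nonempty (Grp.mk (Red.bc ((U s').ι ≫ f) H) ≅ Grp.mk (Red.DS (U s' : Scheme.{u}) (M s'))))
    {c : K ⊗ H ⟶ H} (hmul : Mult c) (hone : ∀ T : Over S, Triv c (1 : T ⟶ K)) (x : K.left) : Triv c (rp x) := by
  let s : S := K.hom x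
  obtain ⟨s', hs'⟩ := f.surjective s
  let L : Type u := S'.residueField s'
  let j : Spec (CommRingCat.of L) ⟶ (U s' : Scheme.{u}) :=
    IsOpenImmersion.lift (U s').ι (S'.fromSpecResidueField s') (by
      rw [Scheme.Opens.range_ι, Scheme.range_fromSpecResidueField]
      exact Set.singleton_subset_iff.2 (hxU s'))
  let p : Spec (CommRingCat.of L) ⟶ S := j ≫ (U s').ι ≫ f
  obtain ⟨e⟩ := hiso s'
  obtain ⟨w, hw⟩ := MultLift.exists_split_iso e j p rfl
  haveI := hw
  haveI := hM s'
  let pt₀ := IsLocalRing.closedPoint L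
  have hp0 : p pt₀ = s := by
    have hj : j ≫ (U s').ι = S'.fromSpecResidueField s' := IsOpenImmersion.lift_fac _ _ _
    show (j ≫ (U s').ι ≫ f) pt₀ = s
    rw [reassoc_of% hj, Scheme.Hom.comp_apply, ← hs']
    exact congrArg f (Scheme.fromSpecResidueField_apply s' pt₀)
  rw [← hp0] at hs'
  let d : Spec (CommRingCat.of L) ⟶ Spec (S.residueField (p pt₀)) :=
    Spec.map (S.descResidueField (Scheme.stalkClosedPointTo p))
  have hd : d ≫ S.fromSpecResidueField _ = p :=
    Scheme.descResidueField_stalkClosedPointTo_fromSpecResidueField L S p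
  haveI : Flat d := by
    rw [HasRingHomProperty.Spec_iff (P := @Flat)]
    let ψ := (S.descResidueField (Scheme.stalkClosedPointTo p)).hom
    letI := ψ.toAlgebra
    exact RingHom.flat_algebraMap_iff.2 (inferInstance : Module.Flat (S.residueField (p pt₀)) L)
  haveI : Surjective d :=
    ⟨fun t => ⟨pt₀, @Subsingleton.elim _ (inferInstanceAs (Subsingleton (PrimeSpectrum (S.residueField _)))) _ _⟩⟩
  let FL := pullback K.hom p
  let Fs := pullback K.hom (S.fromSpecResidueField (p pt₀))
  let π : FL ⟶ Fs := pullback.lift (pullback.fst _ _) (pullback.snd _ _ ≫ d)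
    (by rw [Category.assoc, hd, pullback.condition])
  have sq : IsPullback π (pullback.snd K.hom p) (pullback.snd K.hom (S.fromSpecResidueField (p pt₀))) d := by
    refine IsPullback.of_right ?_ (pullback.lift_snd _ _ _) (IsPullback.of_hasPullback _ _)
    rw [pullback.lift_fst, hd]
    exact IsPullback.of_hasPullback _ _
  haveI : Flat π := MorphismProperty.of_isPullback sq.flip inferInstance
  haveI : Surjective π := MorphismProperty.of_isPullback sq.flip inferInstance
  haveI : QuasiCompact π := MorphismProperty.of_isPullback sq.flip inferInstance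
  let W : Set Fs := {y | Triv c (rp (pullback.fst K.hom (S.fromSpecResidueField (p pt₀)) y))}
  have hWL : IsClopen (π ⁻¹' W) := by
    have hkey : ∀ y : FL, ∃ O : Set FL, IsOpen O ∧ y ∈ O ∧ ((O ⊆ π ⁻¹' W) ∨ (O ⊆ (π ⁻¹' W)ᶜ)) := by
      intro y
      obtain ⟨V, hV, hyV, -⟩ := exists_isAffineOpen_mem_and_subset (X := FL) (x := y) (U := ⊤) trivial
      haveI : IsAffine (V : Scheme.{u}) := hV
      let v : Spec (CommRingCat.of Γ((V : Scheme.{u}), ⊤)) ⟶ FL := (V : Scheme.{u}).isoSpec.inv ≫ V.ι
      haveI : IsOpenImmersion v := by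
        show IsOpenImmersion ((V : Scheme.{u}).isoSpec.inv ≫ V.ι)
        infer_instance
      obtain ⟨W₁, hW₁, hW₁', -⟩ := exists_clopen hmul p w v
      obtain ⟨a, ha⟩ : y ∈ Set.range v := by
        obtain ⟨a, ha⟩ := (V : Scheme.{u}).isoSpec.inv.surjective ⟨y, hyV⟩
        refine ⟨a, ?_⟩
        show ((V : Scheme.{u}).isoSpec.inv ≫ V.ι) a = y
        rw [Scheme.Hom.comp_apply, ha]
        rfl
      have hmem : ∀ b, v b ∈ π ⁻¹' W ↔ b ∈ W₁ := fun b => by
        rw [hW₁' b]
        show Triv c (rp (pullback.fst K.hom _ (π (v b)))) ↔ _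
        rw [← Scheme.Hom.comp_apply π, pullback.lift_fst]
        rfl
      by_cases haW : a ∈ W₁
      · refine ⟨v '' W₁, v.isOpenEmbedding.isOpenMap _ hW₁.isOpen, ⟨a, haW, ha⟩, Or.inl ?_⟩
        rintro _ ⟨b, hb, rfl⟩
        exact (hmem b).2 hb
      · refine ⟨v '' W₁ᶜ, v.isOpenEmbedding.isOpenMap _ hW₁.isClosed.isOpen_compl, ⟨a, haW, ha⟩, Or.inr ?_⟩
        rintro _ ⟨b, hb, rfl⟩
        exact fun h => hb ((hmem b).1 h)
    refine ⟨isOpen_compl_iff.1 (isOpen_iff_forall_mem_open.2 fun y hy => ?_),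
      isOpen_iff_forall_mem_open.2 fun y hy => ?_⟩
    · obtain ⟨O, hO, hyO, h | h⟩ := hkey y
      · exact absurd (h hyO) hy
      · exact ⟨O, h, hO, hyO⟩
    · obtain ⟨O, hO, hyO, h | h⟩ := hkey y
      · exact ⟨O, h, hO, hyO⟩
      · exact absurd hy (h hyO)
  have hq := Flat.isQuotientMap_of_surjective π
  have hW : IsClopen W := ⟨hq.isClosed_preimage.1 hWL.isClosed, hq.isOpen_preimage.1 hWL.isOpen⟩
  haveI := hconn (p pt₀)
  obtain ⟨y₀, hy₀⟩ : ∃ y₀, y₀ ∈ W := exists_unit_mem hone (p pt₀)
  have huniv : W = Set.univ := hW.eq_univ ⟨y₀, hy₀⟩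
  obtain ⟨y, hy, -⟩ := Scheme.Pullback.exists_preimage_pullback (f := K.hom) (g := S.fromSpecResidueField (p pt₀)) x
    (IsLocalRing.closedPoint _) ((congrArg (fun t => t) hp0.symm).trans (Scheme.fromSpecResidueField_apply _ _).symm)
  have : y ∈ W := huniv ▸ trivial
  rw [← hy]
  exact this

/-- Triviality on a flat chart over a split piece. -/
theorem exists_triv_split {R : Type u} [CommRing R] {M : Type} [AddCommGroup M] [AddGroup.FG M] {c : K ⊗ H ⟶ H}
    (hmul : Mult c) (p : Spec (CommRingCat.of R) ⟶ S) [Flat p] (w : sp R (DA R M) ≅ Red.bc p H) [IsMonHom w.hom]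
    (hpts : ∀ x : K.left, Triv c (rp x)) (y : ↥(pullback K.hom p)) :
    ∃ (T : Over S) (q : T ⟶ K), Flat q.left ∧ pullback.fst K.hom p y ∈ Set.range q.left ∧ Triv c q := by
  obtain ⟨V, hV, hyV, -⟩ := exists_isAffineOpen_mem_and_subset (X := pullback K.hom p) (x := y) (U := ⊤) trivial
  haveI : IsAffine (V : Scheme.{u}) := hV
  let v : Spec (CommRingCat.of Γ((V : Scheme.{u}), ⊤)) ⟶ pullback K.hom p := (V : Scheme.{u}).isoSpec.inv ≫ V.ι
  obtain ⟨W, -, hW', hW''⟩ := exists_clopen hmul p w v
  have h0 := hW'' (Set.eq_univ_of_forall fun a => (hW' a).2 (hpts _))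
  refine ⟨Over.mk ((v ≫ pullback.fst K.hom p) ≫ K.hom), Over.homMk (v ≫ pullback.fst K.hom p), ?_, ?_, h0⟩
  · show Flat (((V : Scheme.{u}).isoSpec.inv ≫ V.ι) ≫ pullback.fst K.hom p)
    infer_instance
  · obtain ⟨a, ha⟩ := (V : Scheme.{u}).isoSpec.inv.surjective ⟨y, hyV⟩
    refine ⟨a, ?_⟩
    show (((V : Scheme.{u}).isoSpec.inv ≫ V.ι) ≫ pullback.fst K.hom p) a = _
    rw [Category.assoc, Scheme.Hom.comp_apply, ha]
    rfl

/-- Triviality on a flat chart through a given point. -/
theorem exists_triv_chart {S' : Scheme.{u}} (f : S' ⟶ S) [Flat f] (U : S' → S'.Opens) (hxU : ∀ s', s' ∈ U s') (M : S' → Type)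
    [∀ s', AddCommGroup (M s')] (hM : ∀ s', AddGroup.FG (M s'))
    (hiso : ∀ s', Nonempty (Grp.mk (Red.bc ((U s').ι ≫ f) H) ≅ Grp.mk (Red.DS (U s' : Scheme.{u}) (M s'))))
    {c : K ⊗ H ⟶ H} (hmul : Mult c) (hpts : ∀ x : K.left, Triv c (rp x)) (z : ↥(pullback K.hom f)) :
    ∃ (T : Over S) (q : T ⟶ K), Flat q.left ∧ pullback.fst K.hom f z ∈ Set.range q.left ∧ Triv c q := by
  let s' := pullback.snd K.hom f z
  obtain ⟨T, hT, hsT, hTU⟩ := exists_isAffineOpen_mem_and_subset (X := S') (x := s') (U := U s') (hxU s')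
  haveI : IsAffine (T : Scheme.{u}) := hT
  let R : Type u := Γ((T : Scheme.{u}), ⊤)
  let j : Spec (CommRingCat.of R) ⟶ (U s' : Scheme.{u}) := (T : Scheme.{u}).isoSpec.inv ≫ S'.homOfLE hTU
  let p : Spec (CommRingCat.of R) ⟶ S := j ≫ (U s').ι ≫ f
  haveI : IsOpenImmersion j := inferInstanceAs (IsOpenImmersion ((T : Scheme.{u}).isoSpec.inv ≫ S'.homOfLE hTU))
  haveI : Flat p := by
    show Flat (j ≫ (U s').ι ≫ f)
    infer_instance
  obtain ⟨e⟩ := hiso s'
  obtain ⟨w, hw⟩ := MultLift.exists_split_iso e j p rfl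
  haveI := hw
  haveI := hM s'
  obtain ⟨t, ht⟩ := (T : Scheme.{u}).isoSpec.inv.surjective ⟨s', hsT⟩
  have hpt : p t = f s' := by
    show (((T : Scheme.{u}).isoSpec.inv ≫ S'.homOfLE hTU) ≫ (U s').ι ≫ f) t = f s'
    rw [Category.assoc, Scheme.homOfLE_ι_assoc, Scheme.Hom.comp_apply, ht]
    rfl
  obtain ⟨y, hy, -⟩ := Scheme.Pullback.exists_preimage_pullback (f := K.hom) (g := p) (pullback.fst K.hom f z) t (by
    rw [hpt, ← Scheme.Hom.comp_apply, pullback.condition]
    rfl)
  rw [← hy]
  exact exists_triv_split hmul p w hpts y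

/-- A family of endomorphisms of a group of multiplicative type parametrised by a group with connected fibres which
is the identity at the unit is constant. -/
theorem eq_snd_of_connected (hconn : ∀ s : S, ConnectedSpace ↥(pullback K.hom (S.fromSpecResidueField s)))
    (hH : SGA3x.IsMultTypeFT H) (c : K ⊗ H ⟶ H) (hmul : Mult c) (hone : ∀ T : Over S, Triv c (1 : T ⟶ K)) :
    c = snd K H := by
  obtain ⟨S', f, hflat, hsurj, -, hloc⟩ := hH
  haveI := hflat
  haveI := hsurj
  choose U hxU M _ hM hiso using hloc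
  have hpts := triv_rp hconn f U hxU M hM hiso hmul hone
  have hex := exists_triv_chart f U hxU M hM hiso hmul hpts
  choose T q hqflat hqmem hqtriv using hex
  have hid : Triv c (𝟙 K) := triv_of_family q hqflat (fun x => by
    obtain ⟨z, hz⟩ := (pullback.fst K.hom f).surjective x
    exact ⟨z, hz ▸ hqmem z⟩) (fun z => by rw [Category.comp_id]; exact hqtriv z)
  rw [triv_iff] at hid
  simpa using hid

end Groth.Agent.NormCent
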